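import Mathlib
import Groth.Agent.WildQuotLib.SOP
import Groth.Agent.GorLib.TopHull
import Groth.Agent.GorLib.Artinian

/-!
# The top Čech quotient of a Gorenstein local ring is an injective hull of the residue field
-/

set_option autoImplicit false
set_option linter.style.haveILetI false
universe u

open IsLocalRing RingTheory.Sequence

namespace Groth.Agent.CechHullLib

variable {R : Type u} [CommRing R] [IsNoetherianRing R] [IsLocalRing R]
variable {d : ℕ} (x : Fin d → R)

/-- The ideal of powers. -/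
def powIdeal (e : Fin d → ℕ) : Ideal R := Ideal.span (Set.range fun i => x i ^ e i)

variable {x}

theorem le_maximal_of_radical (hx : (Ideal.span (Set.range x)).radical = maximalIdeal R) (i : Fin d) :
    x i ∈ maximalIdeal R :=
  hx ▸ Ideal.le_radical (Ideal.subset_span ⟨i, rfl⟩)

theorem powIdeal_le (hx : (Ideal.span (Set.range x)).radical = maximalIdeal R) (e : Fin d → ℕ)
    (he : ∀ i, 0 < e i) : powIdeal x e ≤ maximalIdeal R :=
  Ideal.span_le.2 (Set.range_subset_iff.2 fun i => Ideal.pow_mem_of_mem _ (le_maximal_of_radical hx i) _ (he i))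

theorem maximal_le_radical_powIdeal (hx : (Ideal.span (Set.range x)).radical = maximalIdeal R) (e : Fin d → ℕ) :
    maximalIdeal R ≤ (powIdeal x e).radical := by
  rw [← hx, Ideal.radical_le_radical_iff, Ideal.span_le]
  rintro _ ⟨i, rfl⟩
  exact ⟨e i, Ideal.subset_span ⟨i, rfl⟩⟩

theorem isWeaklyRegular_list (hG : LocCoh.IsGorensteinLocalRing R) (hd : ringKrullDim R = d) (l : List R)
    (hl : l.length = d) (htop : Ideal.ofList l ≠ ⊤) (hrad : maximalIdeal R ≤ (Ideal.ofList l).radical) :
    IsWeaklyRegular R l := by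
  obtain ⟨rs, hlen, hm, hw⟩ := GorLib.exists_seq_dim hG hd
  have e : (R ⧸ (⊥ : Ideal R)) ≃ₗ[R] R := Submodule.quotEquivOfEqBot _ rfl
  refine (e.isWeaklyRegular_congr l).1 (WildQuotLib.isWeaklyRegular_of_radical l ⊥ ?_ ⟨rs, hlen.trans hl.symm, hm,
    (e.isWeaklyRegular_congr rs).2 hw⟩ ?_)
  · rwa [bot_sup_eq]
  · rwa [bot_sup_eq]

/-- One colon step. -/
theorem mem_of_mul_mem (hG : LocCoh.IsGorensteinLocalRing R) (hd : ringKrullDim R = d)
    (hx : (Ideal.span (Set.range x)).radical = maximalIdeal R) (e : Fin d → ℕ) (he : ∀ j, 0 < e j)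
    (i : Fin d) (r : R) (h : x i * r ∈ powIdeal x (Function.update e i (e i + 1))) : r ∈ powIdeal x e := by
  classical
  let L : List R := (((Finset.univ.erase i).toList).map fun j => x j ^ e j)
  have hofL : Ideal.ofList L = Ideal.span ((fun j => x j ^ e j) '' {j | j ≠ i}) := by
    refine congrArg Ideal.span (Set.ext fun z => ?_)
    simp [L]
  have hall : Ideal.ofList (L ++ [x i]) = Ideal.span ((fun j => x j ^ e j) '' {j | j ≠ i}) ⊔ Ideal.span {x i} := by
    rw [Ideal.ofList_append, hofL, Ideal.ofList_singleton]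
  have hlen : (L ++ [x i]).length = d := by
    have := i.pos
    simp [L]
    omega
  have hne : Ideal.ofList (L ++ [x i]) ≠ ⊤ := by
    rw [hall]
    refine fun h => (maximalIdeal.isMaximal R).ne_top (top_le_iff.1 (h ▸ sup_le (Ideal.span_le.2 ?_) (Ideal.span_le.2 ?_)))
    · rintro _ ⟨j, -, rfl⟩
      exact Ideal.pow_mem_of_mem _ (le_maximal_of_radical hx j) _ (he j)
    · rintro _ rfl
      exact le_maximal_of_radical hx i
  have hrad : maximalIdeal R ≤ (Ideal.ofList (L ++ [x i])).radical := by
    refine (maximal_le_radical_powIdeal hx e).trans (Ideal.radical_mono ?_)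
    rw [hall, powIdeal, Ideal.span_le]
    rintro _ ⟨j, rfl⟩
    by_cases hj : j = i
    · exact Ideal.mem_sup_right (hj ▸ Ideal.pow_mem_of_mem _ (Ideal.mem_span_singleton_self _) _ (he j))
    · exact Ideal.mem_sup_left (Ideal.subset_span ⟨j, hj, rfl⟩)
  have hw := isWeaklyRegular_list hG hd _ hlen hne hrad
  rw [isWeaklyRegular_append_iff] at hw
  have hreg : ∀ z : R, x i * z ∈ Ideal.ofList L → z ∈ Ideal.ofList L := by
    intro z hz
    have h1 : IsSMulRegular (R ⧸ (Ideal.ofList L • (⊤ : Submodule R R))) (x i) :=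
      ((isWeaklyRegular_singleton_iff _ _).1 hw.2)
    have h2 : (Submodule.Quotient.mk z : R ⧸ (Ideal.ofList L • (⊤ : Submodule R R))) = 0 := by
      refine h1 ?_
      simp only [smul_zero, ← Submodule.Quotient.mk_smul, Submodule.Quotient.mk_eq_zero]
      simpa using hz
    simpa using (Submodule.Quotient.mk_eq_zero _).1 h2
  have hsplit : powIdeal x (Function.update e i (e i + 1)) ≤ Ideal.ofList L ⊔ Ideal.span {x i * x i ^ e i} := by
    rw [powIdeal, Ideal.span_le]
    rintro _ ⟨j, rfl⟩
    by_cases hj : j = i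
    · subst hj
      refine Ideal.mem_sup_right ?_
      simp only [Function.update_self]
      rw [pow_succ']
      exact Ideal.mem_span_singleton_self _
    · refine Ideal.mem_sup_left ?_
      rw [hofL]
      exact Ideal.subset_span ⟨j, hj, by simp [Function.update_of_ne hj]⟩
  obtain ⟨p, hp, q, hq, hpq⟩ := Submodule.mem_sup.1 (hsplit h)
  obtain ⟨a, rfl⟩ := Ideal.mem_span_singleton'.1 hq
  have h3 := hreg (r - a * x i ^ e i) (by
    have : x i * (r - a * x i ^ e i) = p := by linear_combination hpq.symm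
    rwa [this])
  have hle : Ideal.ofList L ≤ powIdeal x e := by
    rw [hofL]; exact Ideal.span_mono (Set.image_subset_range _ _)
  have := add_mem (hle h3) (Ideal.mul_mem_left (powIdeal x e) a (Ideal.subset_span ⟨i, rfl⟩))
  simpa using this

/-- Multiplication by the product is injective between the quotients. -/
theorem mem_of_prod_mul_mem (hG : LocCoh.IsGorensteinLocalRing R) (hd : ringKrullDim R = d)
    (hx : (Ideal.span (Set.range x)).radical = maximalIdeal R) (n : ℕ) (hn : 0 < n) (r : R)
    (h : (∏ i, x i) * r ∈ powIdeal x fun _ => n + 1) : r ∈ powIdeal x fun _ => n := by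
  classical
  suffices key : ∀ s : Finset (Fin d), ∀ r, (∏ i ∈ s, x i) * r ∈ powIdeal x (fun j => if j ∈ s then n + 1 else n) →
      r ∈ powIdeal x fun _ => n from key Finset.univ r (by simpa using h)
  intro s
  induction s using Finset.induction_on with
  | empty => intro r hr; simpa using hr
  | insert i s his ih =>
    intro r hr
    refine ih r (mem_of_mul_mem hG hd hx _ (fun j => by split <;> omega) i _ ?_)
    rw [Finset.prod_insert his, mul_assoc] at hr
    convert hr using 2
    funext j
    by_cases hj : j = i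
    · subst hj; simp [his]
    · simp [Function.update_of_ne hj, hj]

theorem mem_of_prod_pow_mul_mem (hG : LocCoh.IsGorensteinLocalRing R) (hd : ringKrullDim R = d)
    (hx : (Ideal.span (Set.range x)).radical = maximalIdeal R) (n : ℕ) (hn : 0 < n) :
    ∀ (a : ℕ) (r : R), (∏ i, x i) ^ a * r ∈ powIdeal x (fun _ => n + a) → r ∈ powIdeal x fun _ => n := by
  intro a
  induction a with
  | zero => intro r h; simpa using h
  | succ a ih =>
    intro r h
    refine ih r (mem_of_prod_mul_mem hG hd hx (n + a) (by omega) _ ?_)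
    rwa [pow_succ', mul_assoc] at h

theorem prod_pow_mul_mem (m a : ℕ) {r : R} (hr : r ∈ powIdeal x fun _ => m) :
    (∏ i, x i) ^ a * r ∈ powIdeal x fun _ => m + a := by
  classical
  induction hr using Submodule.span_induction with
  | mem z hz =>
    obtain ⟨i, rfl⟩ := hz
    rw [← Finset.mul_prod_erase Finset.univ x (Finset.mem_univ i), mul_pow]
    have h1 : x i ^ (m + a) ∈ powIdeal x fun _ => m + a := Ideal.subset_span ⟨i, rfl⟩
    have := Ideal.mul_mem_left _ ((∏ j ∈ Finset.univ.erase i, x j) ^ a) h1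
    simp only
    convert this using 1
    ring
  | zero => simp
  | add p q _ _ hp hq => rw [mul_add]; exact add_mem hp hq
  | smul c p _ hp => rw [smul_eq_mul, mul_left_comm]; exact Ideal.mul_mem_left _ _ hp

variable (x)

/-- The relations. -/
noncomputable def rel : Submodule R (Localization.Away (∏ i, x i)) :=
  Submodule.span R {y : Localization.Away (∏ i, x i) | ∃ (i : Fin d) (n : ℕ),
    y = algebraMap R (Localization.Away (∏ i, x i)) (x i ^ n) * IsLocalization.Away.invSelf (∏ i, x i) ^ n}

/-- `r ↦ r / t ^ n`. -/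
noncomputable def psi (n : ℕ) : R →ₗ[R] Localization.Away (∏ i, x i) ⧸ rel x :=
  (rel x).mkQ ∘ₗ LinearMap.toSpanSingleton R (Localization.Away (∏ i, x i))
    (IsLocalization.Away.invSelf (∏ i, x i) ^ n)

theorem algebraMap_pow_mul_invSelf (a m : ℕ) :
    algebraMap R (Localization.Away (∏ i, x i)) ((∏ i, x i) ^ a) * IsLocalization.Away.invSelf (∏ i, x i) ^ (m + a) =
      IsLocalization.Away.invSelf (∏ i, x i) ^ m := by
  rw [map_pow, pow_add, mul_left_comm, ← mul_pow, IsLocalization.Away.mul_invSelf, one_pow, mul_one]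

theorem psi_succ (n a : ℕ) (r : R) : psi x (n + a) ((∏ i, x i) ^ a * r) = psi x n r := by
  simp only [psi, LinearMap.comp_apply, LinearMap.toSpanSingleton_apply]
  congr 1
  rw [Algebra.smul_def, Algebra.smul_def, map_mul, mul_comm (algebraMap R _ (_ ^ a)), mul_assoc,
    algebraMap_pow_mul_invSelf]

theorem psi_surjective (z : Localization.Away (∏ i, x i) ⧸ rel x) : ∃ n r, psi x (n + 1) r = z := by
  obtain ⟨z, rfl⟩ := Submodule.mkQ_surjective _ z
  obtain ⟨n, r, hr⟩ := IsLocalization.Away.surj (∏ i, x i) z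
  refine ⟨n, (∏ i, x i) * r, ?_⟩
  have h1 := psi_succ x n 1 r
  rw [pow_one] at h1
  rw [h1]
  simp only [psi, LinearMap.comp_apply, LinearMap.toSpanSingleton_apply]
  congr 1
  rw [Algebra.smul_def, ← hr, mul_assoc, ← mul_pow, IsLocalization.Away.mul_invSelf, one_pow, mul_one]

/-- Membership in the relations. -/
theorem exists_of_mem_rel {y : Localization.Away (∏ i, x i)} (hy : y ∈ rel x) :
    ∃ m, ∃ s ∈ powIdeal x fun _ => m, y = algebraMap R _ s * IsLocalization.Away.invSelf (∏ i, x i) ^ m := by
  induction hy using Submodule.span_induction with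
  | mem z hz =>
    obtain ⟨i, n, rfl⟩ := hz
    exact ⟨n, x i ^ n, Ideal.subset_span ⟨i, rfl⟩, rfl⟩
  | zero => exact ⟨0, 0, zero_mem _, by simp⟩
  | add p q _ _ hp hq =>
    obtain ⟨m, s, hs, rfl⟩ := hp
    obtain ⟨m', s', hs', rfl⟩ := hq
    refine ⟨m + m', (∏ i, x i) ^ m' * s + (∏ i, x i) ^ m * s', add_mem (prod_pow_mul_mem m m' hs) ?_, ?_⟩
    · have := prod_pow_mul_mem (x := x) m' m hs'
      rwa [add_comm m'] at this
    · rw [map_add, map_mul, map_mul, add_mul, mul_comm (algebraMap R _ (_ ^ m')), mul_assoc,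
        algebraMap_pow_mul_invSelf, mul_comm (algebraMap R _ (_ ^ m)), mul_assoc, add_comm m m',
        algebraMap_pow_mul_invSelf]
  | smul c p _ hp =>
    obtain ⟨m, s, hs, rfl⟩ := hp
    exact ⟨m, c * s, Ideal.mul_mem_left _ c hs, by rw [map_mul, Algebra.smul_def, mul_assoc]⟩

theorem psi_eq_zero_of_mem {n : ℕ} {r : R} (hr : r ∈ powIdeal x fun _ => n) : psi x n r = 0 := by
  induction hr using Submodule.span_induction with
  | mem z hz =>
    obtain ⟨i, rfl⟩ := hz
    simp only [psi, LinearMap.comp_apply, LinearMap.toSpanSingleton_apply, Submodule.mkQ_apply,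
      Submodule.Quotient.mk_eq_zero]
    exact Submodule.subset_span ⟨i, n, by rw [Algebra.smul_def]⟩
  | zero => simp
  | add p q _ _ hp hq => rw [map_add, hp, hq, add_zero]
  | smul c p _ hp => rw [map_smul, hp, smul_zero]

variable {x}

theorem psi_eq_zero_iff (hG : LocCoh.IsGorensteinLocalRing R) (hd : ringKrullDim R = d)
    (hx : (Ideal.span (Set.range x)).radical = maximalIdeal R) {n : ℕ} (hn : 0 < n) (r : R) :
    psi x n r = 0 ↔ r ∈ powIdeal x fun _ => n := by
  refine ⟨fun h => ?_, psi_eq_zero_of_mem x⟩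
  simp only [psi, LinearMap.comp_apply, LinearMap.toSpanSingleton_apply, Submodule.mkQ_apply,
    Submodule.Quotient.mk_eq_zero, Algebra.smul_def] at h
  obtain ⟨m, s, hs, hrs⟩ := exists_of_mem_rel x h
  set T := ∏ i, x i with hT
  have h1 : algebraMap R (Localization.Away T) (T ^ m * r) = algebraMap R (Localization.Away T) (T ^ n * s) := by
    have := congrArg (· * algebraMap R (Localization.Away T) (T ^ (n + m))) hrs
    rw [pow_add, map_mul, map_pow, map_pow] at this
    have hinv : algebraMap R (Localization.Away T) T * IsLocalization.Away.invSelf T = 1 :=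
      IsLocalization.Away.mul_invSelf T
    rw [map_mul, map_mul, map_pow, map_pow]
    calc algebraMap R (Localization.Away T) T ^ m * algebraMap R _ r
        = algebraMap R (Localization.Away T) r * IsLocalization.Away.invSelf T ^ n *
          (algebraMap R (Localization.Away T) T ^ n * algebraMap R _ T ^ m) := by
            have e := congrArg (· ^ n) hinv
            simp only [mul_pow, one_pow] at e
            linear_combination (-(algebraMap R (Localization.Away T) r * algebraMap R _ T ^ m)) * e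
      _ = algebraMap R (Localization.Away T) s * IsLocalization.Away.invSelf T ^ m *
          (algebraMap R (Localization.Away T) T ^ n * algebraMap R _ T ^ m) := this
      _ = algebraMap R (Localization.Away T) T ^ n * algebraMap R _ s := by
            have e := congrArg (· ^ m) hinv
            simp only [mul_pow, one_pow] at e
            linear_combination (algebraMap R (Localization.Away T) s * algebraMap R _ T ^ n) * e
  obtain ⟨⟨c, k, rfl⟩, hc⟩ := (IsLocalization.eq_iff_exists (Submonoid.powers T) _).1 h1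
  refine mem_of_prod_pow_mul_mem hG hd hx n hn (k + m) r ?_
  have h2 := prod_pow_mul_mem (x := x) m (k + n) hs
  rw [show n + (k + m) = m + (k + n) by omega]
  convert h2 using 1
  rw [← hT]
  linear_combination hc

/-- The hull. -/
theorem exists_hull (hG : LocCoh.IsGorensteinLocalRing R) (hd : ringKrullDim R = d)
    (hx : (Ideal.span (Set.range x)).radical = maximalIdeal R) :
    ∃ f : ResidueField R →ₗ[R] Localization.Away (∏ i, x i) ⧸ rel x, InjHull.IsInjectiveHull f := by
  classical
  let I : ℕ → Ideal R := fun n => powIdeal x fun _ => n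
  have hle : ∀ n, 0 < n → I n ≤ maximalIdeal R := fun n hn => powIdeal_le hx _ fun _ => hn
  have hprim : ∀ n, ∃ M : ℕ, maximalIdeal R ^ M ≤ I n := fun n =>
    Ideal.exists_pow_le_of_le_radical_of_fg (maximal_le_radical_powIdeal hx _) (IsNoetherian.noetherian _)
  have hsocle : ∀ n, 0 < n → ∃ t : R, t ∉ I n ∧ (∀ r ∈ maximalIdeal R, r * t ∈ I n) ∧
      ∀ z : R, (∀ r ∈ maximalIdeal R, r * z ∈ I n) → ∃ c, z - c * t ∈ I n := by
    intro n hn
    let L : List R := List.ofFn fun i => x i ^ n
    have hL : Ideal.ofList L = I n := congrArg Ideal.span (Set.ext fun z => by simp [L])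
    have hw := isWeaklyRegular_list hG hd L (by simp [L])
      (by rw [hL]; exact ne_top_of_le_ne_top (maximalIdeal.isMaximal R).ne_top (hle n hn))
      (by rw [hL]; exact maximal_le_radical_powIdeal hx _)
    haveI : Nontrivial (R ⧸ I n) :=
      Ideal.Quotient.nontrivial_iff.2 (ne_top_of_le_ne_top (maximalIdeal.isMaximal R).ne_top (hle n hn))
    haveI := IsLocalRing.of_surjective' (Ideal.Quotient.mk (I n)) Ideal.Quotient.mk_surjective
    haveI : IsLocalHom (Ideal.Quotient.mk (I n)) := .of_surjective _ Ideal.Quotient.mk_surjective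
    have hGq : LocCoh.IsGorensteinLocalRing (R ⧸ I n) := by
      haveI : IsLocalRing (R ⧸ Ideal.ofList L) := by rw [hL]; infer_instance
      exact GorLib.gorenstein_of_ringEquiv (Ideal.quotEquivOfEq hL) (GorLib.gorenstein_quot_seq L.length R hG L rfl
        (fun r hr => by
          obtain ⟨i, rfl⟩ := List.mem_ofFn.1 hr
          exact Ideal.pow_mem_of_mem _ (le_maximal_of_radical hx i) _ hn) hw)
    haveI : IsArtinianRing (R ⧸ I n) := by
      obtain ⟨M, hM⟩ := hprim n
      have hfl := InjHullLib.isFiniteLength_quot hM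
      haveI : IsArtinian R (R ⧸ I n) :=
        ((isFiniteLength_iff_isNoetherian_isArtinian).1 hfl).2
      exact (isArtinian_of_tower R inferInstance : IsArtinian (R ⧸ I n) (R ⧸ I n))
    obtain ⟨t, ht0, htm, htx⟩ := GorLib.simpleSocle_of_gorenstein hGq
    obtain ⟨t, rfl⟩ := Ideal.Quotient.mk_surjective t
    refine ⟨t, fun h => ht0 (Ideal.Quotient.eq_zero_iff_mem.2 h), fun r hr => ?_, fun z hz => ?_⟩
    · refine Ideal.Quotient.eq_zero_iff_mem.1 ?_
      rw [map_mul]
      exact htm _ (map_nonunit _ r hr)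
    · obtain ⟨c, hc⟩ := htx (Ideal.Quotient.mk _ z) fun r hr => by
        obtain ⟨r, rfl⟩ := Ideal.Quotient.mk_surjective r
        have hr' : r ∈ maximalIdeal R := fun hu => hr (hu.map _)
        rw [← map_mul]
        exact Ideal.Quotient.eq_zero_iff_mem.2 (hz r hr')
      obtain ⟨c, rfl⟩ := Ideal.Quotient.mk_surjective c
      exact ⟨c, Ideal.Quotient.eq.1 (hc.trans (map_mul _ _ _).symm)⟩
  obtain ⟨t, ht0, htm, htx⟩ := hsocle 1 one_pos
  have he0 : psi x 1 t ≠ 0 := fun h => ht0 ((psi_eq_zero_iff hG hd hx one_pos t).1 h)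
  let s : ResidueField R →ₗ[R] Localization.Away (∏ i, x i) ⧸ rel x :=
    Submodule.liftQ (maximalIdeal R) (LinearMap.toSpanSingleton R _ (psi x 1 t)) fun r hr => by
      rw [LinearMap.mem_ker, LinearMap.toSpanSingleton_apply, ← map_smul, smul_eq_mul]
      exact psi_eq_zero_of_mem x (htm r hr)
  have hs1 : ∀ c : R, s (residue R c) = c • psi x 1 t := fun c => rfl
  have hsinj : Function.Injective s := by
    rw [injective_iff_map_eq_zero]
    intro z hz
    obtain ⟨c, rfl⟩ := residue_surjective z
    by_contra hne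
    obtain ⟨u, rfl⟩ : IsUnit c := by
      by_contra hr; exact hne (Ideal.Quotient.eq_zero_iff_mem.2 hr)
    rw [hs1] at hz
    have := congrArg ((↑u⁻¹ : R) • ·) hz
    simp only [smul_smul, Units.inv_mul, one_smul, smul_zero] at this
    exact he0 this
  refine ⟨s, InjHullLib.isInjectiveHull_of_length (fun z => ?_) hsinj (fun z hz => ?_) fun N => ?_⟩
  · obtain ⟨n, r, rfl⟩ := psi_surjective x z
    obtain ⟨M, hM⟩ := hprim (n + 1)
    refine ⟨M, fun a ha => ?_⟩
    rw [← map_smul, smul_eq_mul]
    exact psi_eq_zero_of_mem x (Ideal.mul_mem_right _ _ (hM ha))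
  · obtain ⟨n, r, rfl⟩ := psi_surjective x z
    have hr : ∀ a ∈ maximalIdeal R, a * r ∈ I (n + 1) := fun a ha => by
      refine (psi_eq_zero_iff hG hd hx n.succ_pos _).1 ?_
      rw [← smul_eq_mul, map_smul]; exact hz a ha
    obtain ⟨u, -, hum, hux⟩ := hsocle (n + 1) n.succ_pos
    have ht' : ∀ a ∈ maximalIdeal R, a * ((∏ i, x i) ^ n * t) ∈ I (n + 1) := fun a ha => by
      have := prod_pow_mul_mem (x := x) 1 n (htm a ha)
      rw [add_comm 1 n] at this
      rwa [mul_left_comm]
    obtain ⟨c, hc⟩ := hux _ hr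
    obtain ⟨e, he⟩ := hux _ ht'
    have heu : IsUnit e := by
      by_contra hne
      refine ht0 (mem_of_prod_pow_mul_mem hG hd hx 1 one_pos n t ?_)
      rw [add_comm 1 n]
      have : e * u ∈ I (n + 1) := hum e hne
      have := add_mem he this
      simpa using this
    obtain ⟨e, rfl⟩ := heu
    refine ⟨residue R (c * ↑e⁻¹), ?_⟩
    rw [hs1, ← psi_succ x 1 n t, add_comm 1 n, ← map_smul, ← sub_eq_zero, ← map_sub, smul_eq_mul]
    refine psi_eq_zero_of_mem x ?_
    have : c * ↑e⁻¹ * ((∏ i, x i) ^ n * t) - r = c * ↑e⁻¹ * ((∏ i, x i) ^ n * t - (e : R) * u) - (r - c * u) := by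
      linear_combination (c * u) * (Units.inv_mul e)
    rw [this]
    exact sub_mem (Ideal.mul_mem_left _ _ he) hc
  · obtain ⟨M, hM⟩ := hprim (N + 1)
    refine ⟨I (N + 1), Ideal.span_le.2 (Set.range_subset_iff.2 fun i =>
      Ideal.pow_le_pow_right N.le_succ (Ideal.pow_mem_pow (le_maximal_of_radical hx i) _)), ⟨M, hM⟩, ?_⟩
    let φ0 : (R ⧸ I (N + 1)) →ₗ[R] Localization.Away (∏ i, x i) ⧸ rel x :=
      Submodule.liftQ (I (N + 1)) (psi x (N + 1)) fun r hr => psi_eq_zero_of_mem x hr
    let g : (R ⧸ I (N + 1)) →ₗ[R] ((R ⧸ I (N + 1)) →ₗ[R] Localization.Away (∏ i, x i) ⧸ rel x) :=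
      Submodule.liftQ (I (N + 1)) (LinearMap.toSpanSingleton R _ φ0) fun r hr => by
        refine Submodule.linearMap_qext _ (LinearMap.ext fun a => ?_)
        show r • φ0 (Submodule.Quotient.mk a) = 0
        rw [show φ0 (Submodule.Quotient.mk a) = psi x (N + 1) a from rfl, ← map_smul, smul_eq_mul]
        exact psi_eq_zero_of_mem x (Ideal.mul_mem_right _ _ hr)
    refine Module.length_le_of_injective g ?_
    rw [injective_iff_map_eq_zero]
    intro z hz
    obtain ⟨r, rfl⟩ := Submodule.Quotient.mk_surjective _ z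
    have h1 : r • psi x (N + 1) 1 = 0 := LinearMap.congr_fun hz (Submodule.Quotient.mk 1)
    rw [← map_smul, smul_eq_mul, mul_one, psi_eq_zero_iff hG hd hx N.succ_pos] at h1
    exact (Submodule.Quotient.mk_eq_zero _).2 h1

end Groth.Agent.CechHullLib
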